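import Mathlib
import Cfsg.Agent.H2.BGU.L95e
import Cfsg.Agent.Lib.Helper8.BGTenL
import Cfsg.Agent.Lib.Helper5.BGTwelveA
import Cfsg.Agent.H1.ElemAbelian
import Cfsg.Agent.H1.Card
import Cfsg.Agent.S1350
import Cfsg.Agent.S1396
import Cfsg.Agent.S1403
import Cfsg.Agent.S1408
import Cfsg.Agent.S1409
import Cfsg.Agent.S1444

/-!
# B&G Section 11: exceptional triples `(M, A, A₀)` (Hypothesis 11.1) — basic facts

`M` maximal, `p ∉ σ(M)`, `A ≤ M` elementary abelian of order `p²`, `A₀ ≤ A` of order `p`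
with `N_G(A₀) ≤ M`.
-/

set_option autoImplicit false
set_option linter.unusedVariables false
set_option linter.unusedSectionVars false
set_option linter.style.haveILetI false

open scoped commutatorElement Pointwise

namespace Cfsg.Agent.H2.BG11

open Cfsg Cfsg.Agent.Lib.Helper8.BGTen Cfsg.Agent.Lib.Helper4.BGTrans
open Cfsg.Agent.Lib.Helper7 (IsSylowIn exists_isSylowIn_ge)

universe u

variable {G : Type u} [Group G] [Finite G]

/-- Hypothesis 11.1 of B&G: `(M, A, A₀)` is an exceptional triple for the prime `p`. -/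
structure ExcTriple (M : Subgroup G) (p : ℕ) (A A0 : Subgroup G) : Prop where
  coatom : IsCoatom M
  not_sigma : p ∉ Cfsg.sigma M
  le : A ≤ M
  elem : Cfsg.IsElementaryAbelian p A
  card : Nat.card ↥A = p ^ 2
  le0 : A0 ≤ A
  card0 : Nat.card ↥A0 = p
  norm0 : Subgroup.normalizer (A0 : Set G) ≤ M

/-! ### The landed rows as hypotheses-free facts -/

theorem uniq (hG : Cfsg.IsMinSimpleOddOrder G) : UniqThm G :=
  fun K hK h2 h3 => Cfsg.Agent.S1403.result hG K hK h2 h3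

theorem thm36 : Thm36.{u} :=
  fun K _ _ _ hodd H R R₀ _ hHall hR hR₀ hR₀p hZ p _ =>
    Cfsg.Agent.S1444.result hodd H R R₀ hHall hR hR₀ hR₀p hZ p

/-- B&G Theorem 10.6 (the statement of S1410): proper subgroups have `p`-length one -/
theorem plen (hG : Cfsg.IsMinSimpleOddOrder G) (p : ℕ) [Fact p.Prime] (H : Subgroup G)
    (hH : H ≠ ⊤) : Cfsg.PLengthLE p 1 ↥H :=
  s1410 (uniq hG) thm36 hG p H hH

/-! ### `σ(M)` and `M_σ` under conjugation -/

theorem mem_sigma_iff {M : Subgroup G} {q : ℕ} [hq : Fact q.Prime] :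
    q ∈ Cfsg.sigma M ↔ q ∣ Nat.card ↥M ∧
      ∃ S : Subgroup G, IsSylowIn q S M ∧ Subgroup.normalizer (S : Set G) ≤ M := by
  constructor
  · rintro ⟨-, hd, P, hP⟩
    exact ⟨hd, _, IsSylowIn.of_sylow P, hP⟩
  · rintro ⟨hd, S, hS, hN⟩
    obtain ⟨R, hR⟩ := hS.exists_sylow
    refine ⟨hq.out, hd, R, ?_⟩
    have : (R : Subgroup ↥M).map M.subtype = S := by
      rw [hR]
      exact Subgroup.map_subgroupOf_eq_of_le hS.1
    rw [this]
    exact hN

theorem sigma_subset_cj (g : G) (M : Subgroup G) : Cfsg.sigma M ⊆ Cfsg.sigma (cj g M) := by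
  intro q hq
  haveI : Fact q.Prime := ⟨hq.1⟩
  rw [mem_sigma_iff] at hq ⊢
  obtain ⟨hd, S, hS, hN⟩ := hq
  refine ⟨by rw [card_cj]; exact hd, cj g S, sylIn_cj hS g, ?_⟩
  rw [← cj_normalizer]
  exact cj_mono g hN

theorem sigma_cj (g : G) (M : Subgroup G) : Cfsg.sigma (cj g M) = Cfsg.sigma M := by
  apply Set.Subset.antisymm
  · have h := sigma_subset_cj g⁻¹ (cj g M)
    rwa [cj_inv_cj] at h
  · exact sigma_subset_cj g M

theorem sigmaCore_le (M : Subgroup G) : Cfsg.sigmaCore M ≤ M := Subgroup.map_subtype_le _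

theorem le_normalizer_sigmaCore (M : Subgroup G) :
    M ≤ Subgroup.normalizer (Cfsg.sigmaCore M : Set G) :=
  le_normalizer_piCoreOf (Cfsg.sigma M) M

theorem sigmaCore_hallOf (hG : Cfsg.IsMinSimpleOddOrder G) {M : Subgroup G} (hM : IsCoatom M) :
    Cfsg.IsPiHallOf (Cfsg.sigma M) (Cfsg.sigmaCore M) M :=
  (Cfsg.Agent.S1350.result hG M hM).1

theorem sigmaCore_hall (hG : Cfsg.IsMinSimpleOddOrder G) {M : Subgroup G} (hM : IsCoatom M) :
    Cfsg.IsPiHall (Cfsg.sigma M) (Cfsg.sigmaCore M) :=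
  (Cfsg.Agent.S1350.result hG M hM).2.1

/-- a `q`-subgroup of `M` lies in every normal subgroup of `M` of index prime to `q` -/
theorem pgroup_le_of_relIndex {q : ℕ} (hq : q.Prime) {T N M : Subgroup G} (hTM : T ≤ M)
    (hNM : N ≤ M) (hn : M ≤ Subgroup.normalizer (N : Set G)) (hT : IsPGroup q ↥T)
    (h : ¬ q ∣ N.relIndex M) : T ≤ N := by
  haveI : (N.subgroupOf M).Normal := (Subgroup.normal_subgroupOf_iff_le_normalizer hNM).mpr hn
  have hP : IsPGroup q ↥(T.subgroupOf M) := hT.comap_subtype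
  have h1 := Cfsg.Agent.Lib.Helper5.BGTwelve.pGroup_le_of_not_dvd_index hq hP (K := N.subgroupOf M) h
  intro x hx
  have h2 : (⟨x, hTM hx⟩ : ↥M) ∈ T.subgroupOf M := Subgroup.mem_subgroupOf.mpr hx
  exact Subgroup.mem_subgroupOf.mp (h1 h2)

/-- a `q`-subgroup of `M`, `q ∈ σ(M)`, lies in `M_σ` -/
theorem le_sigmaCore_of_pgroup (hG : Cfsg.IsMinSimpleOddOrder G) {M : Subgroup G} (hM : IsCoatom M)
    {q : ℕ} (hq : q ∈ Cfsg.sigma M) {T : Subgroup G} (hTM : T ≤ M) (hT : IsPGroup q ↥T) :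
    T ≤ Cfsg.sigmaCore M :=
  pgroup_le_of_relIndex hq.1 hTM (sigmaCore_le M) (le_normalizer_sigmaCore M) hT
    ((sigmaCore_hallOf hG hM).2.2 q hq.1 hq)

theorem mem_sigma_of_dvd_sigmaCore (hG : Cfsg.IsMinSimpleOddOrder G) {M : Subgroup G}
    (hM : IsCoatom M) {q : ℕ} (hq : q.Prime) (hd : q ∣ Nat.card ↥(Cfsg.sigmaCore M)) :
    q ∈ Cfsg.sigma M :=
  (sigmaCore_hallOf hG hM).2.1 q hq hd

theorem dvd_card_sigmaCore (hG : Cfsg.IsMinSimpleOddOrder G) {M : Subgroup G}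
    (hM : IsCoatom M) {q : ℕ} (hq : q ∈ Cfsg.sigma M) : q ∣ Nat.card ↥(Cfsg.sigmaCore M) := by
  have h1 := Cfsg.Agent.H1.card_eq_relIndex_mul_card (sigmaCore_le M)
  have h2 : q ∣ (Cfsg.sigmaCore M).relIndex M * Nat.card ↥(Cfsg.sigmaCore M) := h1 ▸ hq.2.1
  rcases (Nat.Prime.dvd_mul hq.1).mp h2 with h | h
  · exact absurd h ((sigmaCore_hallOf hG hM).2.2 q hq.1 hq)
  · exact h

/-- `gM_σg⁻¹` is a Hall `σ(M)`-subgroup of `gMg⁻¹` -/
theorem cj_sigmaCore_hallOf (hG : Cfsg.IsMinSimpleOddOrder G) {M : Subgroup G} (hM : IsCoatom M)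
    (g : G) : Cfsg.IsPiHallOf (Cfsg.sigma M) (cj g (Cfsg.sigmaCore M)) (cj g M) := by
  obtain ⟨h1, h2, h3⟩ := sigmaCore_hallOf hG hM
  refine ⟨cj_mono g h1, fun q hq hd => h2 q hq (by rwa [card_cj] at hd), fun q hq hqσ hd => ?_⟩
  apply h3 q hq hqσ
  have e : (cj g (Cfsg.sigmaCore M)).relIndex (cj g M) = (Cfsg.sigmaCore M).relIndex M :=
    Subgroup.relIndex_map_map_of_injective _ _ (MulAut.conj g).injective
  rwa [e] at hd

/-- `σ`-prime-power subgroups of `gMg⁻¹` lie in `gM_σg⁻¹` -/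
theorem le_cj_sigmaCore_of_pgroup (hG : Cfsg.IsMinSimpleOddOrder G) {M : Subgroup G}
    (hM : IsCoatom M) (g : G)
    {q : ℕ} (hq : q ∈ Cfsg.sigma M) {T : Subgroup G} (hTM : T ≤ cj g M) (hT : IsPGroup q ↥T) :
    T ≤ cj g (Cfsg.sigmaCore M) := by
  refine pgroup_le_of_relIndex hq.1 hTM (cj_mono g (sigmaCore_le M)) ?_ hT
    ((cj_sigmaCore_hallOf hG hM g).2.2 q hq.1 hq)
  rw [← cj_normalizer]
  exact cj_mono g (le_normalizer_sigmaCore M)

/-- `(gMg⁻¹)_σ = g M_σ g⁻¹` -/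
theorem sigmaCore_cj (hG : Cfsg.IsMinSimpleOddOrder G) {M : Subgroup G} (hM : IsCoatom M)
    (g : G) : Cfsg.sigmaCore (cj g M) = cj g (Cfsg.sigmaCore M) := by
  symm
  apply (Cfsg.Agent.S1350.result hG (cj g M) (isCoatom_cj hM g)).2.2
  · rw [← cj_normalizer]
    exact cj_mono g (le_normalizer_sigmaCore M)
  · rw [sigma_cj]
    exact cj_sigmaCore_hallOf hG hM g

namespace ExcTriple

variable {M A A0 : Subgroup G} {p : ℕ} [hp : Fact p.Prime]

theorem ne_top (h : ExcTriple M p A A0) : M ≠ ⊤ := h.coatom.1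

theorem isPGroup (h : ExcTriple M p A A0) : IsPGroup p ↥A :=
  Cfsg.Agent.Lib.Helper4.BGTrans.isPGroup_of_elementary h.elem

theorem dvd_card (h : ExcTriple M p A A0) : p ∣ Nat.card ↥M := by
  have h1 : Nat.card ↥A ∣ Nat.card ↥M := Subgroup.card_dvd_of_le h.le
  rw [h.card] at h1
  exact (dvd_pow_self p two_ne_zero).trans h1

theorem dvd_card_top (h : ExcTriple M p A A0) : p ∣ Nat.card G :=
  h.dvd_card.trans (Subgroup.card_subgroup_dvd_card M)

theorem ne_bot (h : ExcTriple M p A A0) : A ≠ ⊥ := by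
  intro hb
  have h1 := h.card
  rw [hb, Subgroup.card_bot] at h1
  have h2 : 1 < p ^ 2 := Nat.one_lt_pow two_ne_zero hp.out.one_lt
  omega

theorem A_ne_top (h : ExcTriple M p A A0) : A ≠ ⊤ :=
  fun hA => h.ne_top (top_le_iff.mp (hA ▸ h.le))

theorem le0M (h : ExcTriple M p A A0) : A0 ≤ M := h.le0.trans h.le

theorem le_centralizer (h : ExcTriple M p A A0) : A ≤ Subgroup.centralizer (A : Set G) := by
  intro a ha
  rw [Subgroup.mem_centralizer_iff]
  intro b hb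
  exact congrArg Subtype.val (h.elem.1.is_comm.comm (⟨b, hb⟩ : ↥A) ⟨a, ha⟩)

/-- `r_p(M) = 2` (B&G Lemma 10.? = S1409) -/
theorem rank (hG : Cfsg.IsMinSimpleOddOrder G) (h : ExcTriple M p A A0) :
    Cfsg.PRankLE p 2 ↥M ∧ ¬ Cfsg.PRankLE p 1 ↥M :=
  (Cfsg.Agent.S1409.result hG M h.coatom p h.not_sigma A0 h.card0 h.norm0).1

theorem mem_tau2 (hG : Cfsg.IsMinSimpleOddOrder G) (h : ExcTriple M p A A0) : p ∈ Cfsg.tau2 M :=
  ⟨hp.out, h.not_sigma, (h.rank hG).1, (h.rank hG).2⟩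

/-- `A ∈ E*_p(G)` (S1408) -/
theorem max_elem (hG : Cfsg.IsMinSimpleOddOrder G) (h : ExcTriple M p A A0) {B : Subgroup G}
    (hB : Cfsg.IsElementaryAbelian p B) (hAB : A ≤ B) : B = A :=
  (Cfsg.Agent.S1408.result hG M h.coatom p h.not_sigma (h.rank hG).1 (h.rank hG).2).2
    A h.le h.elem h.card B hB hAB

theorem mem_iff_pow (hG : Cfsg.IsMinSimpleOddOrder G) (h : ExcTriple M p A A0) :
    ∀ x ∈ Subgroup.centralizer (A : Set G), x ^ p = 1 ↔ x ∈ A := by
  intro x hxc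
  constructor
  · intro hxp
    have hB := Cfsg.Agent.H1.isElementaryAbelian_sup_zpowers p A h.elem x hxc hxp
    have hBA := h.max_elem hG hB le_sup_left
    have h1 : x ∈ A ⊔ Subgroup.zpowers x := Subgroup.mem_sup_right (Subgroup.mem_zpowers x)
    rwa [hBA] at h1
  · exact h.elem.2 x

/-- Hypothesis 7.1 holds for `A` (S1396(1) + S1410) -/
theorem trans (hG : Cfsg.IsMinSimpleOddOrder G) (h : ExcTriple M p A A0) :
    Cfsg.TransitivityHypothesis A :=
  Cfsg.Agent.S1396.result hG p h.dvd_card_top A h.isPGroup h.elem.1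
    (Or.inl ⟨h.mem_iff_pow hG, fun H hH => plen hG p H hH⟩)

theorem centralizer_le (h : ExcTriple M p A A0) : Subgroup.centralizer (A : Set G) ≤ M :=
  (Subgroup.centralizer_le (by exact_mod_cast h.le0)).trans
    ((Subgroup.centralizer_le_normalizer _).trans h.norm0)

theorem centralizer0_le (h : ExcTriple M p A A0) : Subgroup.centralizer (A0 : Set G) ≤ M :=
  (Subgroup.centralizer_le_normalizer _).trans h.norm0

/-- `K = O_{p'}(C_G(A)) ≤ M` -/
theorem KK_le (h : ExcTriple M p A A0) :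
    Cfsg.piCoreOf (Cfsg.primesNotDvd (Nat.card ↥A)) (Subgroup.centralizer (A : Set G)) ≤ M :=
  (piCoreOf_le _ _).trans h.centralizer_le

theorem not_dvd_sigmaCore (hG : Cfsg.IsMinSimpleOddOrder G) (h : ExcTriple M p A A0) :
    ¬ p ∣ Nat.card ↥(Cfsg.sigmaCore M) :=
  fun hd => h.not_sigma (mem_sigma_of_dvd_sigmaCore hG h.coatom hp.out hd)

theorem coprime_sigmaCore (hG : Cfsg.IsMinSimpleOddOrder G) (h : ExcTriple M p A A0) :
    (Nat.card ↥A).Coprime (Nat.card ↥(Cfsg.sigmaCore M)) := by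
  rw [h.card]
  exact Nat.Coprime.pow_left 2 ((Nat.Prime.coprime_iff_not_dvd hp.out).mpr (h.not_dvd_sigmaCore hG))

theorem ne_of_mem_sigma (h : ExcTriple M p A A0) {q : ℕ} (hq : q ∈ Cfsg.sigma M) : q ≠ p :=
  fun e => h.not_sigma (e ▸ hq)

theorem not_dvd_card_of_mem_sigma (h : ExcTriple M p A A0) {q : ℕ} (hq : q ∈ Cfsg.sigma M) :
    ¬ q ∣ Nat.card ↥A := by
  rw [h.card]
  intro hd
  exact h.ne_of_mem_sigma hq ((Nat.prime_dvd_prime_iff_eq hq.1 hp.out).mp (hq.1.dvd_of_dvd_pow hd))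

/-- a Sylow `p`-subgroup `P ⊇ A` of `M`; `N_G(P) ⊄ M` since `p ∉ σ(M)` -/
theorem exists_sylow (h : ExcTriple M p A A0) :
    ∃ P : Subgroup G, IsSylowIn p P M ∧ A ≤ P ∧ ¬ Subgroup.normalizer (P : Set G) ≤ M := by
  obtain ⟨P, hP, hAP⟩ := exists_isSylowIn_ge h.isPGroup h.le
  exact ⟨P, hP, hAP, fun hN => h.not_sigma (mem_sigma_iff.mpr ⟨h.dvd_card, P, hP, hN⟩)⟩

/-- some `n ∉ M` normalizes a Sylow `p`-subgroup `P ⊇ A` of `M` -/
theorem exists_conj (h : ExcTriple M p A A0) :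
    ∃ (P : Subgroup G) (n : G), IsSylowIn p P M ∧ A ≤ P ∧
      n ∈ Subgroup.normalizer (P : Set G) ∧ n ∉ M := by
  obtain ⟨P, hP, hAP, hN⟩ := h.exists_sylow
  obtain ⟨n, hn, hnM⟩ := SetLike.not_le_iff_exists.mp hN
  exact ⟨P, n, hP, hAP, hn, hnM⟩

/-- conjugating an exceptional triple -/
theorem conj (h : ExcTriple M p A A0) (g : G) : ExcTriple (cj g M) p (cj g A) (cj g A0) where
  coatom := isCoatom_cj h.coatom g
  not_sigma := by rw [sigma_cj]; exact h.not_sigma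
  le := cj_mono g h.le
  elem := by
    refine ⟨?_, ?_⟩
    · have := h.elem.1
      exact Subgroup.map_isMulCommutative A _
    · rintro _ ⟨a, ha, rfl⟩
      rw [← map_pow, h.elem.2 a ha, map_one]
  card := by rw [card_cj]; exact h.card
  le0 := cj_mono g h.le0
  card0 := by rw [card_cj]; exact h.card0
  norm0 := by rw [← cj_normalizer]; exact cj_mono g h.norm0

theorem conj_mem (h : ExcTriple M p A A0) {m : G} (hm : m ∈ M) :
    ExcTriple M p (cj m A) (cj m A0) := by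
  have := h.conj m
  rwa [cj_eq_of_mem hm] at this

end ExcTriple

end Cfsg.Agent.H2.BG11
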