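import Mathlib
import Cfsg.Agent.H2.BG11.A
import Cfsg.Agent.H1.CoprimeHallContain
import Cfsg.Agent.S0033
import Cfsg.Agent.S1392
import Cfsg.Agent.S1394

/-!
# B&G Section 11: the core facts (i), (ii), (iii), (α) for an exceptional triple
-/

set_option autoImplicit false
set_option linter.unusedVariables false
set_option linter.unusedSectionVars false
set_option linter.style.haveILetI false

open scoped commutatorElement Pointwise

namespace Cfsg.Agent.H2.BG11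

open Cfsg Cfsg.Agent.Lib.Helper8.BGTen Cfsg.Agent.Lib.Helper4.BGTrans
open Cfsg.Agent.Lib.Helper7 (IsSylowIn exists_isSylowIn_ge)
open Cfsg.Agent.H2.BGU (Oq Oq_le isPGroup_Oq le_normalizer_Oq solvable_of_le_coatom)

universe u

variable {G : Type u} [Group G] [Finite G]

/-! ### general lemmas -/

/-- conjugation by an element normalizing `X`, as an automorphism of `X` -/
def conjAut (X : Subgroup G) (b : G) (hb : b ∈ Subgroup.normalizer (X : Set G)) : ↥X ≃* ↥X where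
  toFun x := ⟨b * x * b⁻¹, (Subgroup.mem_normalizer_iff.mp hb x).mp x.2⟩
  invFun x := ⟨b⁻¹ * x * b, by
    have := (Subgroup.mem_normalizer_iff.mp (Subgroup.inv_mem _ hb) x).mp x.2
    rwa [inv_inv] at this⟩
  left_inv x := Subtype.ext (by simp [mul_assoc])
  right_inv x := Subtype.ext (by simp [mul_assoc])
  map_mul' x y := Subtype.ext (by simp [mul_assoc])

theorem conjAut_apply (X : Subgroup G) (b : G) (hb : b ∈ Subgroup.normalizer (X : Set G)) (x : ↥X) :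
    ((conjAut X b hb x : ↥X) : G) = b * x * b⁻¹ := rfl

theorem conjAut_pow (X : Subgroup G) (b : G) (hb : b ∈ Subgroup.normalizer (X : Set G)) (n : ℕ)
    (x : ↥X) : (((conjAut X b hb) ^ n) x : G) = b ^ n * x * (b ^ n)⁻¹ := by
  induction n generalizing x with
  | zero => simp
  | succ n ih =>
    rw [pow_succ, MulAut.mul_apply, ih, conjAut_apply, pow_succ]
    group

/-- Thompson's theorem (S0033) for a subgroup normalized by an element of prime order acting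
fixed-point-freely -/
theorem nilpotent_of_fpf_prime {X : Subgroup G} {b : G} {r : ℕ} (hr : r.Prime)
    (hb : orderOf b = r) (hbX : b ∈ Subgroup.normalizer (X : Set G))
    (hfpf : ∀ x ∈ X, b * x * b⁻¹ = x → x = 1) : Group.IsNilpotent ↥X := by
  by_cases hX : X = ⊥
  · subst hX
    infer_instance
  have hφ : MonoidHom.FixedPointFree ((conjAut X b hbX : ↥X ≃* ↥X) : ↥X →* ↥X) := by
    intro x hx
    have h1 : b * (x : G) * b⁻¹ = x := congrArg Subtype.val hx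
    exact Subtype.ext (hfpf x x.2 h1)
  have hpow : (conjAut X b hbX) ^ r = 1 := by
    ext x
    rw [conjAut_pow, ← hb, pow_orderOf_eq_one]
    simp
  have hne : conjAut X b hbX ≠ 1 := by
    intro h
    obtain ⟨⟨x, hxX⟩, hx1'⟩ := (Subgroup.ne_bot_iff_exists_ne_one (H := X)).mp hX
    have hx1 : x ≠ 1 := fun h => hx1' (Subtype.ext h)
    apply hx1
    have := hφ ⟨x, hxX⟩ (by
      show (conjAut X b hbX) ⟨x, hxX⟩ = ⟨x, hxX⟩
      rw [h]; rfl)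
    exact congrArg Subtype.val this
  have hord : orderOf (conjAut X b hbX) = r := by
    have hdvd : orderOf (conjAut X b hbX) ∣ r := orderOf_dvd_of_pow_eq_one hpow
    rcases (Nat.dvd_prime hr).mp hdvd with h | h
    · exact absurd (orderOf_eq_one_iff.mp h) hne
    · exact h
  exact Cfsg.Agent.S0033.result (conjAut X b hbX) hφ r hr hord

theorem le_normalizer_bot (A : Subgroup G) :
    A ≤ Subgroup.normalizer (((⊥ : Subgroup G) : Subgroup G) : Set G) := by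
  intro a _
  rw [Subgroup.mem_normalizer_iff]
  intro x
  simp [Subgroup.mem_bot]

/-- an `A`-invariant Sylow `q`-subgroup (coprime action) -/
theorem exists_inv_sylow' {A X : Subgroup G} {q : ℕ} [hq : Fact q.Prime]
    (hAX : A ≤ Subgroup.normalizer (X : Set G)) (hcop : (Nat.card ↥A).Coprime (Nat.card ↥X))
    (hsolv : Group.IsSolvable ↥X) :
    ∃ Q : Subgroup G, IsSylowIn q Q X ∧ A ≤ Subgroup.normalizer (Q : Set G) := by
  obtain ⟨Q, hQ, hAQ, hUQ⟩ := Cfsg.Agent.H1.coprime_hall_contain A X ⊥ {q} hAX hcop hsolv bot_le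
    (le_normalizer_bot A) (isPiNat_of_isPGroup IsPGroup.of_bot)
  exact ⟨Q, sylIn_of_not_dvd hQ.1 (isPGroup_of_isPiNat hq.out hQ.2.1) (hQ.2.2 q hq.out rfl), hAQ⟩

/-- an `A`-invariant `q`-subgroup lies in an `A`-invariant Sylow `q`-subgroup (coprime action) -/
theorem exists_inv_sylow {A X U : Subgroup G} {q : ℕ} [hq : Fact q.Prime]
    (hAX : A ≤ Subgroup.normalizer (X : Set G)) (hcop : (Nat.card ↥A).Coprime (Nat.card ↥X))
    (hsolv : Group.IsSolvable ↥X) (hUX : U ≤ X) (hAU : A ≤ Subgroup.normalizer (U : Set G))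
    (hU : IsPGroup q ↥U) :
    ∃ Q : Subgroup G, IsSylowIn q Q X ∧ A ≤ Subgroup.normalizer (Q : Set G) ∧ U ≤ Q := by
  obtain ⟨Q, hQ, hAQ, hUQ⟩ := Cfsg.Agent.H1.coprime_hall_contain A X U {q} hAX hcop hsolv hUX hAU
    (isPiNat_of_isPGroup hU)
  exact ⟨Q, sylIn_of_not_dvd hQ.1 (isPGroup_of_isPiNat hq.out hQ.2.1) (hQ.2.2 q hq.out rfl),
    hAQ, hUQ⟩

theorem sylIn_top_of_not_dvd_index {q : ℕ} [hq : Fact q.Prime] {Q X : Subgroup G}
    (hQ : IsSylowIn q Q X) (hX : ¬ q ∣ X.index) : IsSylowIn q Q ⊤ := by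
  refine ⟨le_top, ?_⟩
  rw [hQ.2]
  congr 1
  have h1 : Nat.card ↥(⊤ : Subgroup G) = Nat.card ↥X * X.index := by
    rw [Subgroup.card_top]; exact (Subgroup.card_mul_index X).symm
  rw [h1, Nat.factorization_mul Nat.card_pos.ne' Subgroup.index_ne_zero_of_finite]
  simp [Nat.factorization_eq_zero_of_not_dvd hX]

theorem sylIn_ne_bot {q : ℕ} [hq : Fact q.Prime] {Q X : Subgroup G} (hQ : IsSylowIn q Q X)
    (hd : q ∣ Nat.card ↥X) : Q ≠ ⊥ := by
  intro h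
  have h1 := hQ.2
  rw [h, Subgroup.card_bot] at h1
  have h2 : 0 < (Nat.card ↥X).factorization q :=
    Nat.Prime.factorization_pos_of_dvd hq.out Nat.card_pos.ne' hd
  have h3 : 1 < q ^ (Nat.card ↥X).factorization q := Nat.one_lt_pow h2.ne' hq.out.one_lt
  omega

/-- a Sylow subgroup of `G` contained in `M` is a Sylow subgroup of `M` -/
theorem sylIn_of_sylIn_top {q : ℕ} [hq : Fact q.Prime] {Q M : Subgroup G} (hQ : IsSylowIn q Q ⊤)
    (hQM : Q ≤ M) : IsSylowIn q Q M := by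
  obtain ⟨R, hR, hQR⟩ := exists_isSylowIn_ge hQ.isPGroup hQM
  have : R = Q := sylIn_eq_of_le hQ le_top hR.isPGroup hQR
  rw [← this]
  exact hR

/-- an `A`-invariant Sylow `q`-subgroup of `G` is a maximal `A`-invariant `q`-subgroup -/
theorem mem_maxInv_of_sylow {q : ℕ} [hq : Fact q.Prime] {A Q : Subgroup G}
    (hQ : IsSylowIn q Q ⊤) (hAQ : A ≤ Subgroup.normalizer (Q : Set G)) :
    Q ∈ Cfsg.maxInvSubgroups ⊤ A {q} := by
  refine ⟨mem_invSubgroups_top.mpr ⟨isPiNat_of_isPGroup hQ.isPGroup, hAQ⟩, fun R hR hQR => ?_⟩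
  exact sylIn_eq_of_le hQ le_top (isPGroup_of_isPiNat hq.out hR.2.1) hQR

namespace ExcTriple

variable {M A A0 : Subgroup G} {p : ℕ} [hp : Fact p.Prime]

theorem center_rank (h : ExcTriple M p A A0) :
    ¬ Cfsg.RankLE 1 ↥(A ⊓ Subgroup.centralizer (A : Set G)) := by
  rw [inf_eq_left.mpr h.le_centralizer]
  refine not_rankLE_one_of_elem hp.out (fun a ha b hb => ?_) h.elem.2 ?_
  · exact congrArg Subtype.val (h.elem.1.is_comm.comm (⟨a, ha⟩ : ↥A) ⟨b, hb⟩)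
  · rw [h.card, sq]
    exact lt_mul_of_one_lt_left hp.out.pos hp.out.one_lt

theorem solvable_sigmaCore (hG : Cfsg.IsMinSimpleOddOrder G) (h : ExcTriple M p A A0) :
    Group.IsSolvable ↥(Cfsg.sigmaCore M) :=
  solvable_of_le_coatom hG h.coatom (sigmaCore_le M)

/-- **(i)** [B&G 11.1(a)]: if `g ∉ M` and `A ≤ gMg⁻¹` then `M_σ ∩ gMg⁻¹ = 1`. -/
theorem sigmaCore_inf_cj (hG : Cfsg.IsMinSimpleOddOrder G) (h : ExcTriple M p A A0) {g : G}
    (hg : g ∉ M) (hA : A ≤ cj g M) : Cfsg.sigmaCore M ⊓ cj g M = ⊥ := by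
  by_contra hne
  obtain ⟨D, hD⟩ : ∃ D : Subgroup G, D = Cfsg.sigmaCore M ⊓ cj g M := ⟨_, rfl⟩
  rw [← hD] at hne
  have hDσ : D ≤ Cfsg.sigmaCore M := hD ▸ inf_le_left
  have hDg : D ≤ cj g M := hD ▸ inf_le_right
  have hcard : Nat.card ↥D ≠ 1 := fun h1 => hne (Subgroup.card_eq_one.mp h1)
  obtain ⟨q, hq, hqD⟩ := Nat.exists_prime_and_dvd hcard
  haveI : Fact q.Prime := ⟨hq⟩
  have hqσ : q ∈ Cfsg.sigma M :=
    mem_sigma_of_dvd_sigmaCore hG h.coatom hq (hqD.trans (Subgroup.card_dvd_of_le hDσ))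
  have hAD : A ≤ Subgroup.normalizer (D : Set G) := by
    rw [hD]
    exact le_normalizer_inf (h.le.trans (le_normalizer_sigmaCore M)) (hA.trans Subgroup.le_normalizer)
  have hcopD : (Nat.card ↥A).Coprime (Nat.card ↥D) :=
    (h.coprime_sigmaCore hG).coprime_dvd_right (Subgroup.card_dvd_of_le hDσ)
  have hsolvD : Group.IsSolvable ↥D := solvable_of_le_coatom hG h.coatom (hDσ.trans (sigmaCore_le M))
  -- an `A`-invariant Sylow `q`-subgroup `Q0` of `D`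
  obtain ⟨Q0, hQ0, hAQ0⟩ := exists_inv_sylow' (q := q) hAD hcopD hsolvD
  have hQ0ne : Q0 ≠ ⊥ := sylIn_ne_bot hQ0 hqD
  have hQ0q : IsPGroup q ↥Q0 := hQ0.isPGroup
  have hQ0σ : Q0 ≤ Cfsg.sigmaCore M := hQ0.1.trans hDσ
  have hQ0g : Q0 ≤ cj g (Cfsg.sigmaCore M) :=
    le_cj_sigmaCore_of_pgroup hG h.coatom g hqσ (hQ0.1.trans hDg) hQ0q
  -- `Q1 ⊇ Q0` in `M_σ`, `Q2 ⊇ Q0` in `gM_σg⁻¹`
  obtain ⟨Q1, hQ1, hAQ1, hQ01⟩ := exists_inv_sylow (h.le.trans (le_normalizer_sigmaCore M))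
    (h.coprime_sigmaCore hG) (h.solvable_sigmaCore hG) hQ0σ hAQ0 hQ0q
  have hAgσ : A ≤ Subgroup.normalizer ((cj g (Cfsg.sigmaCore M) : Subgroup G) : Set G) := by
    rw [← cj_normalizer]
    exact hA.trans (cj_mono g (le_normalizer_sigmaCore M))
  have hcopg : (Nat.card ↥A).Coprime (Nat.card ↥(cj g (Cfsg.sigmaCore M))) := by
    rw [card_cj]; exact h.coprime_sigmaCore hG
  have hsolvg : Group.IsSolvable ↥(cj g (Cfsg.sigmaCore M)) :=
    solvable_of_le_coatom hG (isCoatom_cj h.coatom g) (cj_mono g (sigmaCore_le M))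
  obtain ⟨Q2, hQ2, hAQ2, hQ02⟩ := exists_inv_sylow hAgσ hcopg hsolvg hQ0g hAQ0 hQ0q
  have hQ1top : IsSylowIn q Q1 ⊤ :=
    sylIn_top_of_not_dvd_index hQ1 ((sigmaCore_hall hG h.coatom).2 q hq hqσ)
  have hQ2top : IsSylowIn q Q2 ⊤ :=
    sylIn_of_card_ge hQ1top le_top hQ2.isPGroup (by rw [hQ1.2, hQ2.2, card_cj])
  have hm1 := mem_maxInv_of_sylow hQ1top hAQ1
  have hm2 := mem_maxInv_of_sylow hQ2top hAQ2
  have hQ0M : Q0 ≤ M := hQ0σ.trans (sigmaCore_le M)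
  have hM1 : M ⊓ Q1 ≠ ⊥ := fun hb => hQ0ne (le_bot_iff.mp (hb ▸ le_inf hQ0M hQ01))
  have hM2 : M ⊓ Q2 ≠ ⊥ := fun hb => hQ0ne (le_bot_iff.mp (hb ▸ le_inf hQ0M hQ02))
  obtain ⟨k, hk, hQk⟩ := Cfsg.Agent.S1392.result hG A (h.trans hG) q hq
    (h.not_dvd_card_of_mem_sigma hqσ) Q1 Q2 hm1 hm2 M h.ne_top h.le hM1 hM2
  have hkM : k ∈ M := h.KK_le hk
  have hQ2M : Q2 ≤ M := by
    have h1 : Q2 = cj k Q1 := hQk
    rw [h1, ← cj_eq_of_mem hkM]
    exact cj_mono k (hQ1.1.trans (sigmaCore_le M))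
  have hQ2sM : IsSylowIn q Q2 M := sylIn_of_sylIn_top hQ2top hQ2M
  -- `g⁻¹Q2g ≤ M`
  have hle : cj g⁻¹ Q2 ≤ M := by
    have h1 := cj_mono g⁻¹ (hQ2.1.trans (cj_mono g (sigmaCore_le M)))
    rwa [cj_inv_cj] at h1
  obtain ⟨m, hm, c, hc, hgmc⟩ := ctl_of_sylow hqσ hQ2sM g⁻¹ hle
  have hcM : c ∈ M := sigma_normalizer_le hqσ hQ2sM (Subgroup.centralizer_le_normalizer _ hc)
  apply hg
  have h1 : g⁻¹ ∈ M := hgmc ▸ M.mul_mem hm hcM
  have h2 := M.inv_mem h1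
  rwa [inv_inv] at h2

/-- some `n ∉ M` has `A ≤ nMn⁻¹` and `nAn⁻¹ ≤ M` -/
theorem exists_conj' (h : ExcTriple M p A A0) :
    ∃ n : G, n ∉ M ∧ A ≤ cj n M ∧ cj n A ≤ M := by
  obtain ⟨P, n, hP, hAP, hn, hnM⟩ := h.exists_conj
  have e : cj n P = P := cj_eq_of_mem_normalizer hn
  refine ⟨n, hnM, ?_, ?_⟩
  · calc A ≤ P := hAP
      _ = cj n P := e.symm
      _ ≤ cj n M := cj_mono n hP.1
  · calc cj n A ≤ cj n P := cj_mono n hAP
      _ = P := e
      _ ≤ M := hP.1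

/-- **(ii)** `C_G(A)` is a `σ(M)'`-group -/
theorem not_dvd_centralizer (hG : Cfsg.IsMinSimpleOddOrder G) (h : ExcTriple M p A A0) {q : ℕ}
    (hq : q ∈ Cfsg.sigma M) : ¬ q ∣ Nat.card ↥(Subgroup.centralizer (A : Set G)) := by
  intro hqC
  haveI : Fact q.Prime := ⟨hq.1⟩
  obtain ⟨n, hnM, hAn, -⟩ := h.exists_conj'
  have hi := h.sigmaCore_inf_cj hG hnM hAn
  obtain ⟨Q1, hQ1, hAQ1⟩ := exists_inv_sylow' (q := q) (h.le.trans (le_normalizer_sigmaCore M))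
    (h.coprime_sigmaCore hG) (h.solvable_sigmaCore hG)
  have hAgσ : A ≤ Subgroup.normalizer ((cj n (Cfsg.sigmaCore M) : Subgroup G) : Set G) := by
    rw [← cj_normalizer]
    exact hAn.trans (cj_mono n (le_normalizer_sigmaCore M))
  have hcopg : (Nat.card ↥A).Coprime (Nat.card ↥(cj n (Cfsg.sigmaCore M))) := by
    rw [card_cj]; exact h.coprime_sigmaCore hG
  have hsolvg : Group.IsSolvable ↥(cj n (Cfsg.sigmaCore M)) :=
    solvable_of_le_coatom hG (isCoatom_cj h.coatom n) (cj_mono n (sigmaCore_le M))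
  obtain ⟨Q2, hQ2, hAQ2⟩ := exists_inv_sylow' (q := q) hAgσ hcopg hsolvg
  have hQ1top : IsSylowIn q Q1 ⊤ :=
    sylIn_top_of_not_dvd_index hQ1 ((sigmaCore_hall hG h.coatom).2 q hq.1 hq)
  have hQ2top : IsSylowIn q Q2 ⊤ :=
    sylIn_of_card_ge hQ1top le_top hQ2.isPGroup (by rw [hQ1.2, hQ2.2, card_cj])
  have hm1 := mem_maxInv_of_sylow hQ1top hAQ1
  have hm2 := mem_maxInv_of_sylow hQ2top hAQ2
  obtain ⟨k, hk, hQk⟩ := Cfsg.Agent.S1394.result hG A (h.trans hG) h.center_rank q hq.1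
    (h.not_dvd_card_of_mem_sigma hq) hqC Q1 hm1 Q2 hm2
  have hkM : k ∈ M := h.KK_le hk
  have hQ2M : Q2 ≤ M := by
    have h1 : Q2 = cj k Q1 := hQk
    rw [h1, ← cj_eq_of_mem hkM]
    exact cj_mono k (hQ1.1.trans (sigmaCore_le M))
  have hQ2σ : Q2 ≤ Cfsg.sigmaCore M := le_sigmaCore_of_pgroup hG h.coatom hq hQ2M hQ2.isPGroup
  have hQ2n : Q2 ≤ cj n M := hQ2.1.trans (cj_mono n (sigmaCore_le M))
  have hbot : Q2 ≤ ⊥ := hi ▸ le_inf hQ2σ hQ2n
  refine sylIn_ne_bot hQ2 ?_ (le_bot_iff.mp hbot)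
  rw [card_cj]
  exact dvd_card_sigmaCore hG h.coatom hq

/-- **(ii)** `C_{M_σ}(A) = 1` [= S1417(d)] -/
theorem sigmaCore_inf_centralizer (hG : Cfsg.IsMinSimpleOddOrder G) (h : ExcTriple M p A A0) :
    Cfsg.sigmaCore M ⊓ Subgroup.centralizer (A : Set G) = ⊥ := by
  by_contra hne
  have hcard : Nat.card ↥(Cfsg.sigmaCore M ⊓ Subgroup.centralizer (A : Set G)) ≠ 1 :=
    fun h1 => hne (Subgroup.card_eq_one.mp h1)
  obtain ⟨q, hq, hqD⟩ := Nat.exists_prime_and_dvd hcard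
  have hqσ : q ∈ Cfsg.sigma M :=
    mem_sigma_of_dvd_sigmaCore hG h.coatom hq (hqD.trans (Subgroup.card_dvd_of_le inf_le_left))
  exact h.not_dvd_centralizer hG hqσ (hqD.trans (Subgroup.card_dvd_of_le inf_le_right))

/-- some conjugate of `A₀` inside `M` acts fixed-point-freely on `M_σ`; as an element -/
theorem exists_fpf (hG : Cfsg.IsMinSimpleOddOrder G) (h : ExcTriple M p A A0) :
    ∃ b : G, b ∈ M ∧ orderOf b = p ∧ ∀ x ∈ Cfsg.sigmaCore M, b * x * b⁻¹ = x → x = 1 := by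
  obtain ⟨n, hnM, hAn, hnA⟩ := h.exists_conj'
  have hi := h.sigmaCore_inf_cj hG hnM hAn
  have hdvd : p ∣ Nat.card ↥A0 := by rw [h.card0]
  obtain ⟨⟨a, haA0⟩, ha'⟩ := exists_prime_orderOf_dvd_card' (G := ↥A0) p hdvd
  have ha : orderOf a = p := by
    rw [← ha']
    exact (Subgroup.orderOf_mk a haA0).symm
  have hz : Subgroup.zpowers a = A0 := by
    apply Subgroup.eq_of_le_of_card_ge ((Subgroup.zpowers_le).mpr haA0)
    rw [Nat.card_zpowers, ha, h.card0]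
  refine ⟨n * a * n⁻¹, hnA (conj_mem_cj (h.le0 haA0)), ?_, ?_⟩
  · have : n * a * n⁻¹ = MulAut.conj n a := rfl
    rw [this, MulEquiv.orderOf_eq]
    exact ha
  · intro x hx hbx
    have hy : n⁻¹ * x * n ∈ Subgroup.centralizer ((Subgroup.zpowers a : Subgroup G) : Set G) := by
      rw [centralizer_zpowers_eq, Subgroup.mem_centralizer_singleton_iff]
      have e1 : a * (n⁻¹ * x * n) = n⁻¹ * (n * a * n⁻¹ * x * (n * a * n⁻¹)⁻¹) * n * a := by group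
      rw [e1, hbx]
    rw [hz] at hy
    have hxn : x ∈ cj n M := by
      rw [mem_cj]
      exact h.centralizer0_le hy
    have : x ∈ Cfsg.sigmaCore M ⊓ cj n M := ⟨hx, hxn⟩
    rw [hi] at this
    exact Subgroup.mem_bot.mp this

/-- **(iii)** [B&G 11.3]: `M_σ` is nilpotent [= S1417(a)] -/
theorem nilpotent (hG : Cfsg.IsMinSimpleOddOrder G) (h : ExcTriple M p A A0) :
    Group.IsNilpotent ↥(Cfsg.sigmaCore M) := by
  obtain ⟨b, hbM, hb, hfpf⟩ := h.exists_fpf hG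
  exact nilpotent_of_fpf_prime hp.out hb (le_normalizer_sigmaCore M hbM) hfpf

/-- `O_q(M_σ)` is a Sylow `q`-subgroup of `M_σ` -/
theorem sylIn_Oq (hG : Cfsg.IsMinSimpleOddOrder G) (h : ExcTriple M p A A0) (q : ℕ)
    [hq : Fact q.Prime] : IsSylowIn q (Oq q (Cfsg.sigmaCore M)) (Cfsg.sigmaCore M) := by
  obtain ⟨S, hS, -⟩ := exists_isSylowIn_ge (p := q) (Q := ⊥) (H := Cfsg.sigmaCore M)
    IsPGroup.of_bot bot_le
  have h1 : S ≤ Oq q (Cfsg.sigmaCore M) :=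
    Cfsg.Agent.H2.BGU.le_Oq_of_isPGroup (h.nilpotent hG) hS.1 hS.isPGroup
  have h2 : Oq q (Cfsg.sigmaCore M) = S :=
    sylIn_eq_of_le hS (Oq_le q _) (isPGroup_Oq hq.out _) h1
  rw [h2]
  exact hS

/-- for `q ∈ σ(M)`, `O_q(M_σ)` is a Sylow `q`-subgroup of `G` -/
theorem sylIn_top_Oq (hG : Cfsg.IsMinSimpleOddOrder G) (h : ExcTriple M p A A0) {q : ℕ}
    (hq : q ∈ Cfsg.sigma M) : IsSylowIn q (Oq q (Cfsg.sigmaCore M)) ⊤ := by
  haveI : Fact q.Prime := ⟨hq.1⟩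
  exact sylIn_top_of_not_dvd_index (h.sylIn_Oq hG q) ((sigmaCore_hall hG h.coatom).2 q hq.1 hq)

theorem le_normalizer_Oq_sigmaCore (q : ℕ) (M : Subgroup G) :
    M ≤ Subgroup.normalizer (Oq q (Cfsg.sigmaCore M) : Set G) :=
  (le_normalizer_sigmaCore M).trans (Cfsg.Agent.H2.BGU.normalizer_le_normalizer_Oq q _)

theorem Oq_sigmaCore_le (q : ℕ) (M : Subgroup G) : Oq q (Cfsg.sigmaCore M) ≤ M :=
  (Oq_le q _).trans (sigmaCore_le M)

theorem Oq_ne_bot (hG : Cfsg.IsMinSimpleOddOrder G) (h : ExcTriple M p A A0) {q : ℕ}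
    (hq : q ∈ Cfsg.sigma M) : Oq q (Cfsg.sigmaCore M) ≠ ⊥ := by
  haveI : Fact q.Prime := ⟨hq.1⟩
  exact sylIn_ne_bot (h.sylIn_Oq hG q) (dvd_card_sigmaCore hG h.coatom hq)

/-- `N_G(O_q(M_σ)) = M` for `q ∈ σ(M)` -/
theorem normalizer_Oq (hG : Cfsg.IsMinSimpleOddOrder G) (h : ExcTriple M p A A0) {q : ℕ}
    (hq : q ∈ Cfsg.sigma M) : Subgroup.normalizer (Oq q (Cfsg.sigmaCore M) : Set G) = M :=
  Cfsg.Agent.H2.BGU.normalizer_eq_coatom hG h.coatom (h.Oq_ne_bot hG hq) (Oq_sigmaCore_le q M)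
    (le_normalizer_Oq_sigmaCore q M)

/-- `O_q(M_σ)` is a maximal `A`-invariant `q`-subgroup of `G` -/
theorem Oq_mem_maxInv (hG : Cfsg.IsMinSimpleOddOrder G) (h : ExcTriple M p A A0) {q : ℕ}
    (hq : q ∈ Cfsg.sigma M) : Oq q (Cfsg.sigmaCore M) ∈ Cfsg.maxInvSubgroups ⊤ A {q} := by
  haveI : Fact q.Prime := ⟨hq.1⟩
  exact mem_maxInv_of_sylow (h.sylIn_top_Oq hG hq) (h.le.trans (le_normalizer_Oq_sigmaCore q M))

/-- **(α)** (sharp form): if a proper subgroup `H ⊇ A` meets `Q = O_q(M_σ)` nontrivially, then every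
`A`-invariant `q`-subgroup of `H` lies in `Q`. -/
theorem alpha (hG : Cfsg.IsMinSimpleOddOrder G) (h : ExcTriple M p A A0) {H : Subgroup G}
    (hH : H ≠ ⊤) (hAH : A ≤ H) {q : ℕ} (hq : q ∈ Cfsg.sigma M)
    (hD : H ⊓ Oq q (Cfsg.sigmaCore M) ≠ ⊥) {T : Subgroup G} (hTH : T ≤ H) (hT : IsPGroup q ↥T)
    (hAT : A ≤ Subgroup.normalizer (T : Set G)) : T ≤ Oq q (Cfsg.sigmaCore M) := by
  haveI : Fact q.Prime := ⟨hq.1⟩
  by_cases hT1 : T = ⊥
  · rw [hT1]; exact bot_le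
  have hTinv : T ∈ Cfsg.invSubgroups ⊤ A {q} :=
    mem_invSubgroups_top.mpr ⟨isPiNat_of_isPGroup hT, hAT⟩
  obtain ⟨Q2, hQ2, hTQ2⟩ := exists_maxInv_ge hTinv
  have hH2 : H ⊓ Q2 ≠ ⊥ := fun hb => hT1 (le_bot_iff.mp (hb ▸ le_inf hTH hTQ2))
  obtain ⟨k, hk, hQk⟩ := Cfsg.Agent.S1392.result hG A (h.trans hG) q hq.1
    (h.not_dvd_card_of_mem_sigma hq) _ Q2 (h.Oq_mem_maxInv hG hq) hQ2 H hH hAH hD hH2
  have hkM : k ∈ M := h.KK_le hk
  have h1 : Q2 = cj k (Oq q (Cfsg.sigmaCore M)) := hQk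
  rw [cj_eq_of_mem_normalizer (le_normalizer_Oq_sigmaCore q M hkM)] at h1
  rw [← h1]
  exact hTQ2

end ExcTriple

end Cfsg.Agent.H2.BG11
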